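import Groth.Agent.LenSum2.Basic
import Mathlib.RingTheory.QuotSMulTop
import Mathlib.RingTheory.Ideal.AssociatedPrime.Localization
import Mathlib.RingTheory.Ideal.KrullsHeightTheorem
import Mathlib.RingTheory.KrullDimension.Zero
import Mathlib.RingTheory.KrullDimension.NonZeroDivisors
import Mathlib.RingTheory.Ideal.AssociatedPrime.Finiteness
import Mathlib.Algebra.BigOperators.WithTop
import Mathlib.Order.KrullDimension

/-!
A lower bound for the length of the quotient by parameters: the sum of the local lengths at the primes of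
top dimension is at most the length of the quotient.
-/

set_option autoImplicit false
set_option linter.style.haveILetI false

universe u

open Groth.Agent.LenSum2

namespace Groth.Agent.SopLen

variable {R : Type u} [CommRing R] [IsNoetherianRing R]

theorem lenAt_ne_top (p : PrimeSpectrum R) (M : Type u) [AddCommGroup M] [Module R M] [Module.Finite R M]
    (hmin : ∀ p' : PrimeSpectrum R, Module.annihilator R M ≤ p'.asIdeal → p' ≤ p → p' = p) : lenAt p M ≠ ⊤ := by
  suffices H : Module.annihilator R M ≤ Module.annihilator R M → lenAt p M ≠ ⊤ from H le_rfl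
  refine IsNoetherianRing.induction_on_isQuotientEquivQuotientPrime (M := M)
    (motive := fun N _ _ _ => Module.annihilator R M ≤ Module.annihilator R N → lenAt p N ≠ ⊤) R inferInstance
    ?_ ?_ ?_
  · intro N _ _ _ _ _
    haveI : Subsingleton (LocalizedModule p.asIdeal.primeCompl N) :=
      LocalizedModule.subsingleton_iff.2 fun m => ⟨1, Submonoid.one_mem _, Subsingleton.elim _ _⟩
    rw [lenAt, Module.length_eq_zero]
    exact ENat.zero_ne_top
  · intro N _ _ _ q e hN
    rw [lenAt_congr' p e]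
    by_cases h : q.asIdeal ≤ p.asIdeal
    · have hq : Module.annihilator R M ≤ q.asIdeal := fun a ha => by
        have h1 := (Module.mem_annihilator.1 (hN ha)) (e.symm (Submodule.Quotient.mk 1))
        rw [← map_smul, LinearEquiv.map_eq_zero_iff] at h1
        have h2 := (Submodule.Quotient.mk_eq_zero _).1 h1
        simpa using h2
      rw [hmin q hq h, lenAt_self]
      exact ENat.one_ne_top
    · rw [lenAt_of_not_le h]
      exact ENat.zero_ne_top
  · intro N₁ _ _ _ N₂ _ _ _ N₃ _ _ _ f g hf hg hfg h₁ h₃ hN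
    rw [lenAt_add' p f g hf hg hfg]
    exact WithTop.add_ne_top.2 ⟨h₁ (hN.trans (LinearMap.annihilator_le_of_injective f hf)),
      h₃ (hN.trans (LinearMap.annihilator_le_of_surjective g hg))⟩

theorem lenAt_submodule_add (p : PrimeSpectrum R) {M : Type u} [AddCommGroup M] [Module R M] (A : Submodule R M) :
    lenAt p M = lenAt p A + lenAt p (M ⧸ A) :=
  lenAt_add' p A.subtype A.mkQ A.injective_subtype A.mkQ_surjective (LinearMap.exact_subtype_mkQ A)

theorem lenAt_eq_zero_iff (p : PrimeSpectrum R) (M : Type u) [AddCommGroup M] [Module R M] :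
    lenAt p M = 0 ↔ ∀ m : M, ∃ s ∉ p.asIdeal, s • m = 0 := by
  rw [lenAt, Module.length_eq_zero_iff, LocalizedModule.subsingleton_iff]
  exact ⟨fun h m => by obtain ⟨s, hs, e⟩ := h m; exact ⟨s, hs, e⟩, fun h m => by
    obtain ⟨s, hs, e⟩ := h m; exact ⟨s, hs, e⟩⟩

/-- The saturation of a submodule with respect to an element. -/
def sat (x : R) {M : Type u} [AddCommGroup M] [Module R M] (K : Submodule R M) : Submodule R M :=
  ⨆ k : ℕ, K.comap (LinearMap.lsmul R M (x ^ k))

theorem mem_sat {x : R} {M : Type u} [AddCommGroup M] [Module R M] {K : Submodule R M} {m : M} :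
    m ∈ sat x K ↔ ∃ k : ℕ, x ^ k • m ∈ K := by
  refine (Submodule.mem_iSup_of_directed _ ?_).trans Iff.rfl
  refine directed_of_isDirected_le ?_
  intro i j hij a ha
  simp only [Submodule.mem_comap, LinearMap.lsmul_apply] at ha ⊢
  rw [← Nat.sub_add_cancel hij, pow_add, mul_smul]
  exact K.smul_mem _ ha

theorem smul_mem_sat {x : R} {M : Type u} [AddCommGroup M] [Module R M] {K : Submodule R M} {m : M}
    (h : x • m ∈ sat x K) : m ∈ sat x K := by
  obtain ⟨k, hk⟩ := mem_sat.1 h
  exact mem_sat.2 ⟨k + 1, by rw [pow_succ, mul_smul]; exact hk⟩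

/-- The regular case: local lengths at primes avoiding `x` are bounded by the local length modulo `x`. -/
theorem sum_lenAt_le_reg (x : R) (q : PrimeSpectrum R) (hx : x ∈ q.asIdeal) (S : Finset (PrimeSpectrum R))
    (hS : ∀ p ∈ S, x ∉ p.asIdeal ∧ p.asIdeal ≤ q.asIdeal) : ∀ (N : ℕ) (Q : Type u) [AddCommGroup Q] [Module R Q]
      [Module.Finite R Q], (∀ m : Q, x • m = 0 → m = 0) →
      (∀ p ∈ S, ∀ p' : PrimeSpectrum R, Module.annihilator R Q ≤ p'.asIdeal → p' ≤ p → p' = p) →
      (∑ p ∈ S, lenAt p Q) ≤ N → (∑ p ∈ S, lenAt p Q) ≤ lenAt q (QuotSMulTop x Q) := by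
  classical
  intro N
  induction N with
  | zero => intro Q _ _ _ _ _ h; exact le_trans h (by simp)
  | succ N ih =>
    intro Q _ _ _ hreg hmin hle
    by_cases h0 : ∀ p ∈ S, lenAt p Q = 0
    · rw [Finset.sum_eq_zero h0]; exact zero_le
    push Not at h0
    obtain ⟨p₀, hp₀, hne⟩ := h0
    have hsupp : Module.annihilator R Q ≤ p₀.asIdeal := by
      by_contra h
      obtain ⟨a, ha, hap⟩ := SetLike.not_le_iff_exists.1 h
      exact hne ((lenAt_eq_zero_iff p₀ Q).2 fun m => ⟨a, hap, Module.mem_annihilator.1 ha m⟩)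
    have hminp : p₀.asIdeal ∈ (Module.annihilator R Q).minimalPrimes := by
      refine ⟨⟨p₀.isPrime, hsupp⟩, fun J hJ hJp => ?_⟩
      exact (congrArg PrimeSpectrum.asIdeal (hmin p₀ hp₀ ⟨J, hJ.1⟩ hJ.2 hJp)).ge
    have hass := Module.associatedPrimes.minimalPrimes_annihilator_subset_associatedPrimes R Q hminp
    obtain ⟨-, m, hm⟩ := Submodule.isAssociatedPrime_iff.1 hass
    have hann : ∀ r : R, r ∈ p₀.asIdeal ↔ r • m = 0 := fun r => by
      rw [hm, Submodule.mem_colon_singleton, Submodule.mem_bot]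
    let A : Submodule R Q := sat x (Submodule.span R {m})
    have hmA : m ∈ A := mem_sat.2 ⟨0, by rw [pow_zero, one_smul]; exact Submodule.mem_span_singleton_self m⟩
    -- the piece has local length one at `p₀` and zero at the other primes
    have hAp : ∀ p ∈ S, lenAt p A = if p = p₀ then 1 else 0 := fun p hp => by
      let B : Submodule R A := Submodule.comap A.subtype (Submodule.span R {m})
      have hAB : lenAt p (A ⧸ B) = 0 := (lenAt_eq_zero_iff p _).2 fun a => by
        obtain ⟨a, rfl⟩ := Submodule.Quotient.mk_surjective _ a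
        obtain ⟨k, hk⟩ := mem_sat.1 a.2
        exact ⟨x ^ k, fun h => (hS p hp).1 (p.isPrime.mem_of_pow_mem k h), (Submodule.Quotient.mk_eq_zero _).2 hk⟩
      let f : R →ₗ[R] B := LinearMap.toSpanSingleton R B ⟨⟨m, hmA⟩, Submodule.mem_span_singleton_self m⟩
      have hf : Function.Surjective f := fun b => by
        obtain ⟨r, hr⟩ := Submodule.mem_span_singleton.1 (Submodule.mem_comap.1 b.2)
        exact ⟨r, Subtype.ext (Subtype.ext hr)⟩
      have hker : LinearMap.ker f = p₀.asIdeal := Submodule.ext fun r => by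
        rw [hann, LinearMap.mem_ker]
        exact ⟨fun h => congrArg (fun b : B => ((b : A) : Q)) h, fun h => Subtype.ext (Subtype.ext h)⟩
      have e : B ≃ₗ[R] R ⧸ p₀.asIdeal :=
        ((Submodule.quotEquivOfEq _ _ hker.symm).trans (f.quotKerEquivOfSurjective hf)).symm
      rw [lenAt_submodule_add p B, hAB, add_zero, lenAt_congr' p e]
      by_cases h : p = p₀
      · rw [if_pos h, h, lenAt_self]
      · rw [if_neg h, lenAt_of_not_le fun hle' => h (hmin p hp p₀ hsupp hle').symm]
    have hsum : (∑ p ∈ S, lenAt p Q) = 1 + ∑ p ∈ S, lenAt p (Q ⧸ A) := by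
      rw [Finset.sum_congr rfl fun p _ => lenAt_submodule_add p A, Finset.sum_add_distrib,
        Finset.sum_congr rfl hAp, Finset.sum_ite_eq', if_pos hp₀]
    have hregC : ∀ c : Q ⧸ A, x • c = 0 → c = 0 := by
      intro c hc
      obtain ⟨c, rfl⟩ := Submodule.Quotient.mk_surjective _ c
      rw [← Submodule.Quotient.mk_smul, Submodule.Quotient.mk_eq_zero] at hc
      exact (Submodule.Quotient.mk_eq_zero _).2 (smul_mem_sat hc)
    have hminC : ∀ p ∈ S, ∀ p' : PrimeSpectrum R, Module.annihilator R (Q ⧸ A) ≤ p'.asIdeal → p' ≤ p → p' = p :=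
      fun p hp p' h h' => hmin p hp p' ((A.mkQ.annihilator_le_of_surjective A.mkQ_surjective).trans h) h'
    have hleC : (∑ p ∈ S, lenAt p (Q ⧸ A)) ≤ (N : ℕ∞) := by
      rw [hsum, Nat.cast_succ, add_comm (1 : ℕ∞)] at hle
      exact (ENat.add_le_add_iff_right (ENat.one_ne_top)).1 hle
    have hC := ih (Q ⧸ A) hregC hminC hleC
    -- the exact sequence modulo `x`
    let f := QuotSMulTop.map x A.subtype
    let g := QuotSMulTop.map x A.mkQ
    have hf : Function.Injective f := by
      refine (injective_iff_map_eq_zero f).2 fun y hy => ?_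
      obtain ⟨a, rfl⟩ := Submodule.Quotient.mk_surjective _ y
      rw [QuotSMulTop.map_apply_mk, Submodule.Quotient.mk_eq_zero, Submodule.mem_smul_pointwise_iff_exists] at hy
      obtain ⟨z, -, hz⟩ := hy
      have hzA : z ∈ A := smul_mem_sat (by rw [hz]; exact a.2)
      rw [Submodule.Quotient.mk_eq_zero]
      have : a = x • (⟨z, hzA⟩ : A) := Subtype.ext hz.symm
      rw [this]
      exact Submodule.smul_mem_pointwise_smul _ _ _ trivial
    have hg : Function.Surjective g := fun y => by
      obtain ⟨y, rfl⟩ := Submodule.Quotient.mk_surjective _ y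
      obtain ⟨y, rfl⟩ := Submodule.Quotient.mk_surjective _ y
      exact ⟨Submodule.Quotient.mk y, rfl⟩
    have hex : Function.Exact f g := fun y => by
      obtain ⟨b, rfl⟩ := Submodule.Quotient.mk_surjective _ y
      constructor
      · intro hy
        rw [QuotSMulTop.map_apply_mk, Submodule.Quotient.mk_eq_zero, Submodule.mem_smul_pointwise_iff_exists] at hy
        obtain ⟨z, -, hz⟩ := hy
        obtain ⟨z, rfl⟩ := Submodule.Quotient.mk_surjective _ z
        have hzb : b - x • z ∈ A := by
          rw [← Submodule.Quotient.mk_smul] at hz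
          exact (Submodule.Quotient.eq _).1 hz.symm
        refine ⟨Submodule.Quotient.mk ⟨b - x • z, hzb⟩, ?_⟩
        rw [QuotSMulTop.map_apply_mk, Submodule.Quotient.eq]
        rw [show (A.subtype ⟨b - x • z, hzb⟩ : Q) - b = x • (-z) by rw [Submodule.coe_subtype, smul_neg]; exact sub_sub_cancel_left b (x • z)]
        exact Submodule.smul_mem_pointwise_smul _ _ _ trivial
      · rintro ⟨a, ha⟩
        rw [← ha]
        obtain ⟨a, rfl⟩ := Submodule.Quotient.mk_surjective _ a
        rw [QuotSMulTop.map_apply_mk, QuotSMulTop.map_apply_mk, Submodule.coe_subtype, Submodule.mkQ_apply,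
          (Submodule.Quotient.mk_eq_zero A).2 a.2, Submodule.Quotient.mk_zero]
    rw [lenAt_add' q f g hf hg hex, hsum]
    refine add_le_add (Order.one_le_iff_pos.2 (pos_iff_ne_zero.2 fun h => ?_)) hC
    -- the piece does not vanish at `q` modulo `x`
    haveI : Module.Finite R A := inferInstance
    have hA : q ∈ Module.support R A := by
      rw [Module.mem_support_iff_of_finite]
      refine le_trans ?_ (hS p₀ hp₀).2
      exact fun r hr => (hann r).2 (congrArg Subtype.val (Module.mem_annihilator.1 hr ⟨m, hmA⟩))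
    have hq : q ∈ Module.support R (QuotSMulTop x A) := by
      rw [Module.support_quotSMulTop]
      exact ⟨hA, (PrimeSpectrum.mem_zeroLocus _ _).2 (Set.singleton_subset_iff.2 hx)⟩
    rw [Module.mem_support_iff] at hq
    rw [lenAt, Module.length_eq_zero_iff] at h
    exact not_subsingleton_iff_nontrivial.2 hq h

/-- Local lengths at primes avoiding `x` are bounded by the local length modulo `x`. -/
theorem sum_lenAt_le (x : R) (q : PrimeSpectrum R) (hx : x ∈ q.asIdeal) (S : Finset (PrimeSpectrum R))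
    (hS : ∀ p ∈ S, x ∉ p.asIdeal ∧ p.asIdeal ≤ q.asIdeal) (M : Type u) [AddCommGroup M] [Module R M]
    [Module.Finite R M]
    (hmin : ∀ p ∈ S, ∀ p' : PrimeSpectrum R, Module.annihilator R M ≤ p'.asIdeal → p' ≤ p → p' = p) :
    (∑ p ∈ S, lenAt p M) ≤ lenAt q (QuotSMulTop x M) := by
  let K : Submodule R M := sat x ⊥
  have hK : ∀ p ∈ S, lenAt p K = 0 := fun p hp => (lenAt_eq_zero_iff p K).2 fun m => by
    obtain ⟨k, hk⟩ := mem_sat.1 m.2
    exact ⟨x ^ k, fun h => (hS p hp).1 (p.isPrime.mem_of_pow_mem k h), Subtype.ext ((Submodule.mem_bot R).1 hk)⟩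
  have hMQ : ∀ p ∈ S, lenAt p M = lenAt p (M ⧸ K) := fun p hp => by
    rw [lenAt_submodule_add p K, hK p hp, zero_add]
  have hreg : ∀ m : M ⧸ K, x • m = 0 → m = 0 := by
    intro m hm
    obtain ⟨m, rfl⟩ := Submodule.Quotient.mk_surjective _ m
    rw [← Submodule.Quotient.mk_smul, Submodule.Quotient.mk_eq_zero] at hm
    exact (Submodule.Quotient.mk_eq_zero _).2 (smul_mem_sat hm)
  have hminQ : ∀ p ∈ S, ∀ p' : PrimeSpectrum R, Module.annihilator R (M ⧸ K) ≤ p'.asIdeal → p' ≤ p → p' = p :=
    fun p hp p' h h' => hmin p hp p' ((K.mkQ.annihilator_le_of_surjective K.mkQ_surjective).trans h) h'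
  have hq : lenAt q (QuotSMulTop x (M ⧸ K)) ≤ lenAt q (QuotSMulTop x M) := by
    let f := QuotSMulTop.map x K.mkQ
    have hf : Function.Surjective f := fun y => by
      obtain ⟨y, rfl⟩ := Submodule.Quotient.mk_surjective _ y
      obtain ⟨y, rfl⟩ := Submodule.Quotient.mk_surjective _ y
      exact ⟨Submodule.Quotient.mk y, rfl⟩
    rw [lenAt_add' q (LinearMap.ker f).subtype f (Submodule.injective_subtype _) hf
      (LinearMap.exact_subtype_ker_map f)]
    exact le_add_self
  rw [Finset.sum_congr rfl hMQ]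
  have hfin : (∑ p ∈ S, lenAt p (M ⧸ K)) ≠ ⊤ :=
    (WithTop.sum_ne_top).2 fun p hp => lenAt_ne_top p _ (hminQ p hp)
  obtain ⟨N, hN⟩ := ENat.ne_top_iff_exists.1 hfin
  exact (sum_lenAt_le_reg x q hx S hS N _ hreg hminQ hN.ge).trans hq

/-- The zero locus of an ideal has a prime whose coheight bounds the dimension of the quotient. -/
theorem exists_coheight_ge [IsLocalRing R] (J : Ideal R) {n : ℕ} (h : (n : WithBot ℕ∞) ≤ ringKrullDim (R ⧸ J)) :
    ∃ q : PrimeSpectrum R, J ≤ q.asIdeal ∧ (n : ℕ∞) ≤ Order.coheight q := by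
  rw [ringKrullDim_quotient, Order.le_krullDim_iff] at h
  obtain ⟨l, hl⟩ := h
  refine ⟨l.head.1, l.head.2, ?_⟩
  rw [← hl]
  exact (Order.length_le_coheight_head (p := l.map Subtype.val (fun _ _ h => h))).trans le_rfl

theorem coheight_eq (p : PrimeSpectrum R) :
    (Order.coheight p : WithBot ℕ∞) = ringKrullDim (R ⧸ p.asIdeal) := by
  rw [ringKrullDim_quotient, Order.coheight_eq_krullDim_Ici]
  have : PrimeSpectrum.zeroLocus (p.asIdeal : Set R) = Set.Ici p := by
    ext q
    simp [PrimeSpectrum.mem_zeroLocus, ← PrimeSpectrum.asIdeal_le_asIdeal]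
  rw [this]

variable [IsLocalRing R]

theorem dim_le_of_radical (J : Ideal R) (hJ : J ≠ ⊤) {n : ℕ} (g : Fin n → R) (hg : ∀ i, g i ∈ IsLocalRing.maximalIdeal R)
    (hrad : IsLocalRing.maximalIdeal R ≤ (J ⊔ Ideal.span (Set.range g)).radical) :
    ringKrullDim (R ⧸ J) ≤ n := by
  classical
  haveI : Nontrivial (R ⧸ J) := Ideal.Quotient.nontrivial_iff.2 hJ
  haveI : IsLocalRing (R ⧸ J) := IsLocalRing.of_surjective' (Ideal.Quotient.mk J) Ideal.Quotient.mk_surjective
  haveI := IsLocalHom.of_surjective (Ideal.Quotient.mk J) Ideal.Quotient.mk_surjective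
  let s : Finset (R ⧸ J) := Finset.univ.image fun i => Ideal.Quotient.mk J (g i)
  have hs : (s : Set (R ⧸ J)) = Ideal.Quotient.mk J '' Set.range g := by
    rw [Finset.coe_image, Finset.coe_univ, ← Set.image_univ, ← Set.image_comp]; rfl
  have hsj : (s : Set (R ⧸ J)) ⊆ Ring.jacobson (R ⧸ J) := by
    rw [hs]
    rintro _ ⟨_, ⟨i, rfl⟩, rfl⟩
    rw [IsLocalRing.ringJacobson_eq_maximalIdeal, SetLike.mem_coe, IsLocalRing.mem_maximalIdeal]
    exact fun h => (IsLocalRing.mem_maximalIdeal _).1 (hg i)
      (IsUnit.of_map (Ideal.Quotient.mk J) _ h)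
  refine (ringKrullDim_le_ringKrullDim_quotient_add_card s hsj).trans ?_
  have hcard : s.card ≤ n := Finset.card_image_le.trans (by simp)
  have h0 : ringKrullDim ((R ⧸ J) ⧸ Ideal.span (s : Set (R ⧸ J))) ≤ 0 := by
    rw [hs, ← Ideal.map_span, ringKrullDim_eq_of_ringEquiv (DoubleQuot.quotQuotEquivQuotSup J _),
      ringKrullDim_quotient]
    haveI : Subsingleton (PrimeSpectrum.zeroLocus ((J ⊔ Ideal.span (Set.range g) : Ideal R) : Set R)) := by
      refine ⟨fun a b => Subtype.ext ?_⟩
      have key : ∀ c : PrimeSpectrum.zeroLocus ((J ⊔ Ideal.span (Set.range g) : Ideal R) : Set R),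
          c.1.asIdeal = IsLocalRing.maximalIdeal R := fun c =>
        (((IsLocalRing.maximalIdeal.isMaximal R).eq_of_le c.1.isPrime.ne_top
          (hrad.trans (c.1.isPrime.radical_le_iff.2 c.2))).symm)
      exact PrimeSpectrum.ext ((key a).trans (key b).symm)
    exact Order.krullDim_nonpos_of_subsingleton
  calc ringKrullDim ((R ⧸ J) ⧸ Ideal.span (s : Set (R ⧸ J))) + (s.card : WithBot ℕ∞)
      ≤ 0 + (n : WithBot ℕ∞) := add_le_add h0 (by exact_mod_cast hcard)
    _ = n := zero_add _

/-- The sum of the local lengths of `R ⧸ I` at its primes of coheight `d` is at most the length of the quotient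
by a system of `d` parameters. -/
theorem sum_lenAt_le_length : ∀ (d : ℕ) (I : Ideal R) (g : Fin d → R),
    (∀ i, g i ∈ IsLocalRing.maximalIdeal R) →
    IsLocalRing.maximalIdeal R ≤ (I ⊔ Ideal.span (Set.range g)).radical →
    ∀ S : Finset (PrimeSpectrum R), (∀ p ∈ S, I ≤ p.asIdeal ∧ Order.coheight p = (d : ℕ∞)) →
      (∑ p ∈ S, lenAt p (R ⧸ I)) ≤ Module.length R (R ⧸ (I ⊔ Ideal.span (Set.range g))) := by
  classical
  intro d
  induction d with
  | zero =>
    intro I g _ _ S hS
    rw [show Ideal.span (Set.range g) = ⊥ by rw [Set.range_eq_empty, Ideal.span_empty], sup_bot_eq]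
    let pm : PrimeSpectrum R := IsLocalRing.closedPoint R
    have hSm : ∀ p ∈ S, p = pm := fun p hp => by
      have h1 := Order.coheight_eq_zero.1 ((hS p hp).2.trans Nat.cast_zero)
      exact le_antisymm (IsLocalRing.le_maximalIdeal p.isPrime.ne_top)
        (h1 (IsLocalRing.le_maximalIdeal p.isPrime.ne_top : p ≤ pm))
    refine le_trans (Finset.sum_le_sum_of_subset (t := {pm}) fun p hp => Finset.mem_singleton.2 (hSm p hp)) ?_
    rw [Finset.sum_singleton]
    by_cases htop : Module.length R (R ⧸ I) = ⊤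
    · rw [htop]; exact le_top
    have hfl : IsFiniteLength R (R ⧸ I) := Module.length_ne_top_iff.1 htop
    rw [length_eq_sum_lenAt (A := R) {pm} (fun p => ⟨fun h => Finset.mem_singleton.2
      (PrimeSpectrum.ext (IsLocalRing.eq_maximalIdeal h)), fun h => by
        rw [Finset.mem_singleton.1 h]; exact IsLocalRing.maximalIdeal.isMaximal R⟩) _ hfl, Finset.sum_singleton]
    haveI : IsSimpleModule R (R ⧸ pm.asIdeal) :=
      isSimpleModule_iff_isCoatom.2 (Ideal.isMaximal_def.1 (IsLocalRing.maximalIdeal.isMaximal R))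
    rw [Module.length_eq_one R (R ⧸ pm.asIdeal), one_mul]
  | succ d ih =>
    intro I g hg hrad S hS
    let x := g 0
    let I' : Ideal R := I ⊔ Ideal.span {x}
    have hsup : I ⊔ Ideal.span (Set.range g) = I' ⊔ Ideal.span (Set.range (Fin.tail g)) := by
      have : Set.range g = insert x (Set.range (Fin.tail g)) := by
        conv_lhs => rw [← Fin.cons_self_tail g]
        rw [Fin.range_cons]
      rw [this, Ideal.span_insert, sup_assoc]
    rw [hsup] at hrad ⊢
    have hxS : ∀ p ∈ S, x ∉ p.asIdeal := fun p hp hx => by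
      have h1 := dim_le_of_radical p.asIdeal p.isPrime.ne_top (Fin.tail g) (fun i => hg _)
        (hrad.trans (Ideal.radical_mono (sup_le_sup_right
          (sup_le (hS p hp).1 ((Ideal.span_singleton_le_iff_mem _).2 hx)) _)))
      rw [← coheight_eq, (hS p hp).2] at h1
      have h2 : d + 1 ≤ d := by exact_mod_cast h1
      omega
    have hex : ∀ p ∈ S, ∃ q : PrimeSpectrum R, p ≤ q ∧ I' ≤ q.asIdeal ∧ Order.coheight q = (d : ℕ∞) := fun p hp => by
      haveI := IsLocalRing.of_surjective' (Ideal.Quotient.mk p.asIdeal) Ideal.Quotient.mk_surjective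
      haveI := IsLocalHom.of_surjective (Ideal.Quotient.mk p.asIdeal) Ideal.Quotient.mk_surjective
      let y := Ideal.Quotient.mk p.asIdeal x
      have hy : (↑({y} : Finset (R ⧸ p.asIdeal)) : Set (R ⧸ p.asIdeal)) ⊆ Ring.jacobson (R ⧸ p.asIdeal) := by
        rw [Finset.coe_singleton, Set.singleton_subset_iff, IsLocalRing.ringJacobson_eq_maximalIdeal,
          SetLike.mem_coe, IsLocalRing.mem_maximalIdeal]
        exact fun h => (IsLocalRing.mem_maximalIdeal _).1 (hg 0) (IsUnit.of_map (Ideal.Quotient.mk p.asIdeal) _ h)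
      have h1 := ringKrullDim_le_ringKrullDim_quotient_add_card {y} hy
      rw [Finset.coe_singleton, Finset.card_singleton, ← coheight_eq, (hS p hp).2,
        show Ideal.span {y} = (Ideal.span {x}).map (Ideal.Quotient.mk p.asIdeal) by
          rw [Ideal.map_span, Set.image_singleton],
        ringKrullDim_eq_of_ringEquiv (DoubleQuot.quotQuotEquivQuotSup p.asIdeal _)] at h1
      have h2 : (d : WithBot ℕ∞) ≤ ringKrullDim (R ⧸ (p.asIdeal ⊔ Ideal.span {x})) := by
        push_cast at h1
        revert h1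
        cases ringKrullDim (R ⧸ (p.asIdeal ⊔ Ideal.span {x})) with
        | bot => simp
        | coe a =>
          exact fun h1 =>
            WithBot.coe_le_coe.2 ((ENat.add_le_add_iff_right ENat.one_ne_top).1 (WithBot.coe_le_coe.1 h1))
      obtain ⟨q, hq, hdq⟩ := exists_coheight_ge _ h2
      have hI' : I' ≤ q.asIdeal := (sup_le_sup_right (hS p hp).1 _).trans hq
      refine ⟨q, le_sup_left.trans hq, hI', le_antisymm ?_ hdq⟩
      have h3 := dim_le_of_radical q.asIdeal q.isPrime.ne_top (Fin.tail g) (fun i => hg _)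
        (hrad.trans (Ideal.radical_mono (sup_le_sup_right hI' _)))
      rw [← coheight_eq] at h3
      exact_mod_cast h3
    choose! φ hφ1 hφ2 hφ3 using hex
    let T := S.image φ
    have hT : ∀ q ∈ T, I' ≤ q.asIdeal ∧ Order.coheight q = (d : ℕ∞) := fun q hq => by
      obtain ⟨p, hp, rfl⟩ := Finset.mem_image.1 hq
      exact ⟨hφ2 p hp, hφ3 p hp⟩
    refine le_trans ?_ (ih I' (Fin.tail g) (fun i => hg _) hrad T hT)
    rw [← Finset.sum_fiberwise_of_maps_to (t := T) (fun p hp => Finset.mem_image_of_mem φ hp)]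
    refine Finset.sum_le_sum fun q hq => ?_
    have hann : I ≤ Module.annihilator R (R ⧸ I) := (Ideal.annihilator_quotient).ge
    have hmin : ∀ p ∈ S.filter (fun p => φ p = q), ∀ p' : PrimeSpectrum R,
        Module.annihilator R (R ⧸ I) ≤ p'.asIdeal → p' ≤ p → p' = p := fun p hp p' h h' => by
      obtain ⟨hp, -⟩ := Finset.mem_filter.1 hp
      by_contra hne
      have h4 := dim_le_of_radical p'.asIdeal p'.isPrime.ne_top g hg
        ((hsup ▸ hrad).trans (Ideal.radical_mono (sup_le_sup_right (hann.trans h) _)))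
      rw [← coheight_eq] at h4
      have h5 : Order.coheight p' ≤ ((d + 1 : ℕ) : ℕ∞) := by exact_mod_cast h4
      have h6 := Order.coheight_add_one_le (lt_of_le_of_ne h' hne)
      rw [(hS p hp).2] at h6
      have h7 : d + 1 + 1 ≤ d + 1 := by exact_mod_cast h6.trans h5
      omega
    refine (sum_lenAt_le x q ((hT q hq).1 (le_sup_right (a := I) (Ideal.subset_span rfl))) _ (fun p hp => ?_)
      (R ⧸ I) hmin).trans (le_of_eq (lenAt_congr' q ?_))
    · obtain ⟨hpS, rfl⟩ := Finset.mem_filter.1 hp
      exact ⟨hxS p hpS, hφ1 p hpS⟩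
    · refine (Submodule.quotEquivOfEq _ _ ?_).trans (Submodule.quotientQuotientEquivQuotient I I' le_sup_left)
      apply le_antisymm
      · intro y hy
        obtain ⟨z, -, rfl⟩ := (Submodule.mem_smul_pointwise_iff_exists _ _ _).1 hy
        obtain ⟨z, rfl⟩ := Submodule.Quotient.mk_surjective _ z
        exact ⟨x • z, le_sup_right (a := I) (Ideal.mul_mem_right _ _ (Ideal.subset_span rfl)), rfl⟩
      · rintro _ ⟨w, hw, rfl⟩
        obtain ⟨i, hi, j, hj, rfl⟩ := Submodule.mem_sup.1 hw
        obtain ⟨c, rfl⟩ := Ideal.mem_span_singleton'.1 hj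
        rw [Submodule.mkQ_apply, Submodule.Quotient.mk_add, (Submodule.Quotient.mk_eq_zero I).2 hi, zero_add,
          mul_comm, ← smul_eq_mul, Submodule.Quotient.mk_smul]
        exact Submodule.smul_mem_pointwise_smul _ _ _ trivial

end Groth.Agent.SopLen
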